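import Mathlib

/-!
# (C4) for helper71's S3282 farm (#10914): cyclic Sylow 2-subgroups give a normal 2-complement.
-/

set_option autoImplicit false

namespace Cfsg.Agent.Helper68.BSW

theorem normal_two_complement_of_cyclic {L : Type*} [Group L] [Finite L]
    (h : ∀ S : Sylow 2 L, IsCyclic S) :
    ∃ N : Subgroup L, N.Normal ∧ Odd (Nat.card N) ∧ ∃ n : ℕ, N.index = 2 ^ n := by
  rcases Nat.even_or_odd (Nat.card L) with he | ho
  · have hmin : (Nat.card L).minFac = 2 := (Nat.minFac_eq_two_iff _).2 he.two_dvd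
    let P : Sylow 2 L := default
    have hP : IsCyclic P := h P
    have hNC := hP.normalizer_le_centralizer hmin
    refine ⟨(MonoidHom.transferSylow P hNC).ker, inferInstance, ?_, ?_⟩
    · rw [← Nat.not_even_iff_odd, even_iff_two_dvd]
      exact MonoidHom.not_dvd_card_ker_transferSylow P hNC
    · have hc := IsCyclic.isComplement' hmin hP
      obtain ⟨n, hn⟩ := P.2.exists_card_eq
      exact ⟨n, by rw [hc.symm.index_eq_card, hn]⟩
  · refine ⟨⊤, inferInstance, ?_, 0, ?_⟩
    · rw [Subgroup.card_top]; exact ho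
    · simp

end Cfsg.Agent.Helper68.BSW
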