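import Cfsg.Agent.Helper71.BSW.DefsCT

/-!
# (S4) for helper71's S3282 farm (#11222): shape (A), the values of `X`, `Λ μ`, `Y₁`, `Y₂` and of all
other irreducible characters on `K ∖ {1}`.
-/

set_option autoImplicit false

open Cfsg Cfsg.Agent.Helper71.BSW

namespace Cfsg.Agent.Helper68.BSW

theorem s_values {G : Type*} [Group G] [Fintype G] [Fintype (IrrCharacter G)] {t s : G} {K : Subgroup G}
    [Fintype ↥K] [Fintype (↥K →* ℂˣ)]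
    {triv : IrrCharacter G} {σ : K →* ℂˣ} {δ : ℤ} {X : IrrCharacter G}
    {Λ : (K →* ℂˣ) → IrrCharacter G} {Y₁ Y₂ : IrrCharacter G} {ε₁ ε₂ : ℤ}
    (h : Hyp t s K) (T : FactsT t s K) (SA : ShapeA K triv σ δ X Λ Y₁ Y₂ ε₁ ε₂) :
    (∀ y ∈ K, y ≠ 1 → (X : G → ℂ) y = δ) ∧
    (∀ μ : K →* ℂˣ, μ ≠ 1 → μ ≠ σ → (Λ μ : G → ℂ) t ^ 2 = 4) ∧
    ((Y₁ : G → ℂ) t ^ 2 = 1 ∧ (Y₂ : G → ℂ) t ^ 2 = 1) ∧
    (∀ χ : IrrCharacter G, χ ≠ triv → χ ≠ X → χ ≠ Y₁ → χ ≠ Y₂ →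
      (∀ μ : K →* ℂˣ, μ ≠ 1 → μ ≠ σ → χ ≠ Λ μ) → ∀ y ∈ K, y ≠ 1 → (χ : G → ℂ) y = 0) := by
  classical
  have hsumind : ∑ μ : K →* ℂˣ, ind μ (1 : K →* ℂˣ) = 1 := by
    rw [Finset.sum_eq_single (1 : K →* ℂˣ) (fun μ _ hμ => ind_of_ne hμ) (by simp)]
    exact ind_self _
  -- the element `t` of `K`
  obtain ⟨τ, hτ⟩ : ∃ τ : K, (τ : G) = t := ⟨⟨t, h.htK⟩, rfl⟩
  have ht1 : t ≠ 1 := by
    intro h1
    have := h.ht
    rw [h1, orderOf_one] at this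
    omega
  have hτ1 : (τ : G) ≠ 1 := by rw [hτ]; exact ht1
  have hττ : τ * τ = 1 := by
    apply Subtype.ext
    rw [Subgroup.coe_mul, hτ, Subgroup.coe_one]
    have := pow_orderOf_eq_one t
    rw [h.ht, pow_two] at this
    exact this
  -- `μ τ = ± 1`
  have hsq : ∀ μ : K →* ℂˣ, ((μ τ : ℂˣ) : ℂ) * ((μ τ : ℂˣ) : ℂ) = 1 := by
    intro μ
    rw [← Units.val_mul, ← map_mul, hττ, map_one, Units.val_one]
  have hδδ : (δ : ℂ) * δ = 1 := by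
    rcases SA.hδ with h1 | h1 <;> rw [h1] <;> norm_num
  have hε₁ : (ε₁ : ℂ) * ε₁ = 1 := by
    rcases SA.hε₁ with h1 | h1 <;> rw [h1] <;> norm_num
  have hε₂ : (ε₂ : ℂ) * ε₂ = 1 := by
    rcases SA.hε₂ with h1 | h1 <;> rw [h1] <;> norm_num
  obtain ⟨hY12, hY1t, hY2t, hY1X, hY2X⟩ := SA.Y_ne
  refine ⟨?_, ?_, ⟨?_, ?_⟩, ?_⟩
  · -- `X`
    intro y hyK hy1
    have hcoef : ∀ μ : K →* ℂˣ, μ ≠ 1 → coef K μ X = δ := by
      intro μ hμ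
      by_cases hσ : μ = σ
      · rw [hσ, SA.coef_sigma, ind_of_ne SA.X_ne, ind_self, ind_of_ne hY1X.symm,
          ind_of_ne hY2X.symm]
        ring
      · rw [SA.coef_nonreal μ hμ hσ, ind_of_ne SA.X_ne, ind_self,
          ind_of_ne (SA.Λ_ne μ hμ hσ).2.1.symm]
        ring
    have e := T.irr_apply_K X ⟨y, hyK⟩ hy1
    refine e.trans ?_
    have hy1' : (⟨y, hyK⟩ : K) ≠ 1 := fun hh => hy1 (congrArg Subtype.val hh)
    have hterm : ∀ μ : K →* ℂˣ, (1 - ind μ (1 : K →* ℂˣ)) * coef K μ X *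
        ((μ ⟨y, hyK⟩ : ℂˣ) : ℂ) = δ * ((μ ⟨y, hyK⟩ : ℂˣ) : ℂ) - δ * ind μ (1 : K →* ℂˣ) := by
      intro μ
      by_cases hμ : μ = 1
      · rw [hμ, ind_self]
        simp
      · rw [ind_of_ne hμ, hcoef μ hμ]
        ring
    rw [Finset.sum_congr rfl (fun μ _ => hterm μ), Finset.sum_sub_distrib, ← Finset.mul_sum,
      ← Finset.mul_sum, T.sum_dual _ hy1', hsumind]
    ring
  · -- `Λ ν`
    intro ν hν1 hνσ
    obtain ⟨hΛt, hΛX, hΛY1, hΛY2, hΛinv⟩ := SA.Λ_ne ν hν1 hνσ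
    have e := T.irr_apply_K (Λ ν) τ hτ1
    rw [hτ] at e
    have hνinv : ν ≠ ν⁻¹ := fun hh => hνσ (SA.hσu ν hν1 hh.symm)
    have hcoef : ∀ μ : K →* ℂˣ, μ ≠ 1 → μ ≠ ν → μ ≠ ν⁻¹ → coef K μ (Λ ν) = 0 := by
      intro μ hμ1 hμν hμν'
      by_cases hσ : μ = σ
      · rw [hσ, SA.coef_sigma, ind_of_ne hΛt, ind_of_ne hΛX, ind_of_ne hΛY1, ind_of_ne hΛY2]
        ring
      · have hne : Λ ν ≠ Λ μ := by
          intro heq
          rcases SA.Λ_inj ν μ hν1 hνσ hμ1 hσ heq with h1 | h1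
          · exact hμν h1.symm
          · apply hμν'
            rw [h1]
            exact (inv_inv μ).symm
        rw [SA.coef_nonreal μ hμ1 hσ, ind_of_ne hΛt, ind_of_ne hΛX, ind_of_ne hne]
        ring
    have hcν : coef K ν (Λ ν) = -δ := by
      rw [SA.coef_nonreal ν hν1 hνσ, ind_of_ne hΛt, ind_of_ne hΛX, ind_self]
      ring
    have hcν' : coef K ν⁻¹ (Λ ν) = -δ := by rw [T.coef_inv]; exact hcν
    have hν'1 : ν⁻¹ ≠ 1 := fun hh => hν1 ((inv_eq_one (a := ν)).1 hh)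
    have hsum : ∑ μ : K →* ℂˣ, (1 - ind μ (1 : K →* ℂˣ)) * coef K μ (Λ ν) * ((μ τ : ℂˣ) : ℂ) =
        -δ * ((ν τ : ℂˣ) : ℂ) + -δ * ((ν⁻¹ τ : ℂˣ) : ℂ) := by
      rw [Finset.sum_eq_add ν ν⁻¹ hνinv ?_ (fun hh => absurd (Finset.mem_univ _) hh)
        (fun hh => absurd (Finset.mem_univ _) hh)]
      · rw [ind_of_ne hν1, ind_of_ne hν'1, hcν, hcν']
        ring
      · intro μ _ hμ
        by_cases hμ1 : μ = 1
        · rw [hμ1, ind_self]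
          ring
        · rw [hcoef μ hμ1 hμ.1 hμ.2]
          ring
    have hinvτ : ((ν⁻¹ τ : ℂˣ) : ℂ) = ((ν τ : ℂˣ) : ℂ) := by
      have h1 : ν τ * ν τ = 1 := by rw [← map_mul, hττ, map_one]
      have h2 : (ν⁻¹) τ = ν τ := by
        rw [MonoidHom.inv_apply]
        exact inv_eq_of_mul_eq_one_left h1
      rw [h2]
    have hval : (Λ ν : G → ℂ) t = 2 * δ * ((ν τ : ℂˣ) : ℂ) := by
      rw [e, hsum, hinvτ]
      ring
    rw [hval]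
    calc (2 * (δ : ℂ) * ((ν τ : ℂˣ) : ℂ)) ^ 2
        = 4 * ((δ : ℂ) * δ) * (((ν τ : ℂˣ) : ℂ) * ((ν τ : ℂˣ) : ℂ)) := by ring
      _ = 4 := by rw [hδδ, hsq]; ring
  · -- `Y₁`
    have e := T.irr_apply_K Y₁ τ hτ1
    rw [hτ] at e
    have hcoef : ∀ μ : K →* ℂˣ, μ ≠ 1 → μ ≠ σ → coef K μ Y₁ = 0 := by
      intro μ hμ1 hσ
      rw [SA.coef_nonreal μ hμ1 hσ, ind_of_ne hY1t, ind_of_ne hY1X,
        ind_of_ne (SA.Λ_ne μ hμ1 hσ).2.2.1.symm]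
      ring
    have hcσ : coef K σ Y₁ = ε₁ := by
      rw [SA.coef_sigma, ind_of_ne hY1t, ind_of_ne hY1X, ind_self, ind_of_ne hY12]
      ring
    have hsum : ∑ μ : K →* ℂˣ, (1 - ind μ (1 : K →* ℂˣ)) * coef K μ Y₁ * ((μ τ : ℂˣ) : ℂ) =
        ε₁ * ((σ τ : ℂˣ) : ℂ) := by
      rw [Finset.sum_eq_single σ ?_ (fun hh => absurd (Finset.mem_univ _) hh)]
      · rw [ind_of_ne SA.hσ1, hcσ]
        ring
      · intro μ _ hμ
        by_cases hμ1 : μ = 1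
        · rw [hμ1, ind_self]
          ring
        · rw [hcoef μ hμ1 hμ]
          ring
    rw [e, hsum]
    calc (-((ε₁ : ℂ) * ((σ τ : ℂˣ) : ℂ))) ^ 2
        = ((ε₁ : ℂ) * ε₁) * (((σ τ : ℂˣ) : ℂ) * ((σ τ : ℂˣ) : ℂ)) := by ring
      _ = 1 := by rw [hε₁, hsq]; ring
  · -- `Y₂`
    have e := T.irr_apply_K Y₂ τ hτ1
    rw [hτ] at e
    have hcoef : ∀ μ : K →* ℂˣ, μ ≠ 1 → μ ≠ σ → coef K μ Y₂ = 0 := by
      intro μ hμ1 hσ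
      rw [SA.coef_nonreal μ hμ1 hσ, ind_of_ne hY2t, ind_of_ne hY2X,
        ind_of_ne (SA.Λ_ne μ hμ1 hσ).2.2.2.1.symm]
      ring
    have hcσ : coef K σ Y₂ = ε₂ := by
      rw [SA.coef_sigma, ind_of_ne hY2t, ind_of_ne hY2X, ind_self, ind_of_ne hY12.symm]
      ring
    have hsum : ∑ μ : K →* ℂˣ, (1 - ind μ (1 : K →* ℂˣ)) * coef K μ Y₂ * ((μ τ : ℂˣ) : ℂ) =
        ε₂ * ((σ τ : ℂˣ) : ℂ) := by
      rw [Finset.sum_eq_single σ ?_ (fun hh => absurd (Finset.mem_univ _) hh)]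
      · rw [ind_of_ne SA.hσ1, hcσ]
        ring
      · intro μ _ hμ
        by_cases hμ1 : μ = 1
        · rw [hμ1, ind_self]
          ring
        · rw [hcoef μ hμ1 hμ]
          ring
    rw [e, hsum]
    calc (-((ε₂ : ℂ) * ((σ τ : ℂˣ) : ℂ))) ^ 2
        = ((ε₂ : ℂ) * ε₂) * (((σ τ : ℂˣ) : ℂ) * ((σ τ : ℂˣ) : ℂ)) := by ring
      _ = 1 := by rw [hε₂, hsq]; ring
  · -- the others
    intro χ hχt hχX hχY1 hχY2 hχΛ y hyK hy1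
    have e := T.irr_apply_K χ ⟨y, hyK⟩ hy1
    refine e.trans ?_
    rw [Finset.sum_eq_zero, neg_zero]
    intro μ _
    by_cases hμ1 : μ = 1
    · rw [hμ1, ind_self]
      ring
    · by_cases hσ : μ = σ
      · rw [hσ, SA.coef_sigma, ind_of_ne hχt, ind_of_ne hχX, ind_of_ne hχY1, ind_of_ne hχY2]
        ring
      · rw [SA.coef_nonreal μ hμ1 hσ, ind_of_ne hχt, ind_of_ne hχX, ind_of_ne (hχΛ μ hμ1 hσ)]
        ring

end Cfsg.Agent.Helper68.BSW
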