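import Mathlib
import Cfsg.Agent.Helper53.PGroup

/-!
# (C3) for helper71's S3282 farm (#10913): if every `p`-local subgroup has a normal Sylow
`p`-subgroup then the Sylow `p`-subgroups are TI.
-/

set_option autoImplicit false

namespace Cfsg.Agent.Helper68.BSW

/-- the key step: two distinct Sylow subgroups with nontrivial intersection `U` both meet a third one
in a strictly larger subgroup -/
theorem c3_key {L : Type*} [Group L] [Finite L] (p : ℕ) [Fact p.Prime]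
    (h : ∀ U : Subgroup L, IsPGroup p U → U ≠ ⊥ →
      ∃ M : Sylow p ↥(Subgroup.normalizer (U : Set L)),
        (M : Subgroup ↥(Subgroup.normalizer (U : Set L))).Normal)
    (P₁ P₂ : Sylow p L) (hne : P₁ ≠ P₂) (hU : (P₁ : Subgroup L) ⊓ (P₂ : Subgroup L) ≠ ⊥) :
    ∃ P₃ : Sylow p L, (P₁ : Subgroup L) ⊓ (P₂ : Subgroup L) < (P₃ : Subgroup L) ⊓ (P₁ : Subgroup L) ∧
      (P₁ : Subgroup L) ⊓ (P₂ : Subgroup L) < (P₃ : Subgroup L) ⊓ (P₂ : Subgroup L) := by
  set U : Subgroup L := (P₁ : Subgroup L) ⊓ (P₂ : Subgroup L) with hUdef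
  have hUp : IsPGroup p U := P₁.2.to_le inf_le_left
  have hU1 : U < (P₁ : Subgroup L) := by
    refine lt_of_le_of_ne inf_le_left ?_
    intro heq
    apply hne
    have hle : (P₁ : Subgroup L) ≤ (P₂ : Subgroup L) := by
      rw [← heq]; exact inf_le_right
    exact Sylow.ext (P₁.3 P₂.2 hle).symm
  have hU2 : U < (P₂ : Subgroup L) := by
    refine lt_of_le_of_ne inf_le_right ?_
    intro heq
    apply hne
    have hle : (P₂ : Subgroup L) ≤ (P₁ : Subgroup L) := by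
      rw [← heq]; exact inf_le_left
    exact Sylow.ext (P₂.3 P₁.2 hle)
  obtain ⟨x₁, hx₁P, hx₁N, hx₁U⟩ :=
    Cfsg.Agent.Helper53.exists_normalizer_not_mem (p := p) (P₁ : Subgroup L) U P₁.2 hU1
  obtain ⟨x₂, hx₂P, hx₂N, hx₂U⟩ :=
    Cfsg.Agent.Helper53.exists_normalizer_not_mem (p := p) (P₂ : Subgroup L) U P₂.2 hU2
  obtain ⟨M, hMn⟩ := h U hUp hU
  have hUN : U ≤ (Subgroup.normalizer (U : Set L)) := Subgroup.le_normalizer
  -- every `p`-subgroup of `(Subgroup.normalizer (U : Set L))` lies in `M`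
  have hMall : ∀ Q : Subgroup ↥(Subgroup.normalizer (U : Set L)), IsPGroup p Q → Q ≤ (M : Subgroup ↥(Subgroup.normalizer (U : Set L))) := by
    intro Q hQ
    obtain ⟨Q', hQ'⟩ := hQ.exists_le_sylow
    have huniq := Sylow.unique_of_normal M hMn
    have : Q' = M := Subsingleton.elim _ _
    rw [← this]
    exact hQ'
  -- the image of `M` in `L`
  have hM'p : IsPGroup p ((M : Subgroup ↥(Subgroup.normalizer (U : Set L))).map (Subgroup.normalizer (U : Set L)).subtype) := M.2.map (Subgroup.normalizer (U : Set L)).subtype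
  obtain ⟨P₃, hP₃⟩ := hM'p.exists_le_sylow
  have hmem : ∀ (P : Sylow p L) (y : L), y ∈ (P : Subgroup L) → y ∈ (Subgroup.normalizer (U : Set L)) → y ∈ (P₃ : Subgroup L) := by
    intro P y hyP hyN
    apply hP₃
    have hQp : IsPGroup p (((P : Subgroup L) ⊓ (Subgroup.normalizer (U : Set L))).subgroupOf (Subgroup.normalizer (U : Set L))) := by
      have h1 : IsPGroup p ((P : Subgroup L) ⊓ (Subgroup.normalizer (U : Set L)) : Subgroup L) := P.2.to_le inf_le_left
      exact h1.comap_of_injective (Subgroup.normalizer (U : Set L)).subtype (Subgroup.normalizer (U : Set L)).subtype_injective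
    have h2 := hMall _ hQp
    have h3 : (⟨y, hyN⟩ : ↥(Subgroup.normalizer (U : Set L))) ∈ ((P : Subgroup L) ⊓ (Subgroup.normalizer (U : Set L))).subgroupOf (Subgroup.normalizer (U : Set L)) := by
      rw [Subgroup.mem_subgroupOf]
      exact ⟨hyP, hyN⟩
    exact ⟨⟨y, hyN⟩, h2 h3, rfl⟩
  refine ⟨P₃, ?_, ?_⟩
  · refine lt_of_le_of_ne ?_ ?_
    · intro y hy
      exact ⟨hmem P₁ y hy.1 (hUN hy), hy.1⟩
    · intro heq
      apply hx₁U
      rw [heq]
      exact ⟨hmem P₁ x₁ hx₁P hx₁N, hx₁P⟩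
  · refine lt_of_le_of_ne ?_ ?_
    · intro y hy
      exact ⟨hmem P₂ y hy.2 (hUN hy), hy.2⟩
    · intro heq
      apply hx₂U
      rw [heq]
      exact ⟨hmem P₂ x₂ hx₂P hx₂N, hx₂P⟩

theorem sylow_TI_of_local {L : Type*} [Group L] [Finite L] (p : ℕ) [Fact p.Prime]
    (h : ∀ U : Subgroup L, IsPGroup p U → U ≠ ⊥ →
      ∃ M : Sylow p ↥(Subgroup.normalizer (U : Set L)),
        (M : Subgroup ↥(Subgroup.normalizer (U : Set L))).Normal) :
    ∀ P₁ P₂ : Sylow p L, P₁ ≠ P₂ → (P₁ : Subgroup L) ⊓ (P₂ : Subgroup L) = ⊥ := by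
  by_contra hcon
  push Not at hcon
  obtain ⟨Q₁, Q₂, hQne, hQU⟩ := hcon
  let Bad := {pq : Sylow p L × Sylow p L //
    pq.1 ≠ pq.2 ∧ (pq.1 : Subgroup L) ⊓ (pq.2 : Subgroup L) ≠ ⊥}
  have hne : Nonempty Bad := ⟨⟨(Q₁, Q₂), hQne, hQU⟩⟩
  have hfin : Finite Bad := inferInstance
  obtain ⟨⟨⟨P₁, P₂⟩, hP12, hPU⟩, hmax⟩ := Finite.exists_max
    (fun pq : Bad => Nat.card ((pq.1.1 : Subgroup L) ⊓ (pq.1.2 : Subgroup L) : Subgroup L))
  simp only at hP12 hPU hmax
  obtain ⟨P₃, h31, h32⟩ := c3_key p h P₁ P₂ hP12 hPU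
  have hP31 : P₃ = P₁ := by
    by_contra hne31
    have hbad : (P₃ : Subgroup L) ⊓ (P₁ : Subgroup L) ≠ ⊥ := by
      intro h0
      rw [h0] at h31
      exact not_lt_bot h31
    have := hmax ⟨(P₃, P₁), hne31, hbad⟩
    have hlt := Cfsg.Agent.Helper53.card_lt_of_lt h31
    simp only at this
    omega
  have hP32 : P₃ = P₂ := by
    by_contra hne32
    have hbad : (P₃ : Subgroup L) ⊓ (P₂ : Subgroup L) ≠ ⊥ := by
      intro h0
      rw [h0] at h32
      exact not_lt_bot h32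
    have := hmax ⟨(P₃, P₂), hne32, hbad⟩
    have hlt := Cfsg.Agent.Helper53.card_lt_of_lt h32
    simp only at this
    omega
  exact hP12 (hP31.symm.trans hP32)

end Cfsg.Agent.Helper68.BSW
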