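import Mathlib
import Cfsg.Agent.Helper71.BSW.Defs

/-!
# (A1e) for helper71's S3282 farm (#10834): centralizers of elements conjugate into `K#` are conjugate
into `C(t)`.
-/

set_option autoImplicit false

namespace Cfsg.Agent.Helper68.BSW

open Cfsg.Agent.Helper71.BSW

theorem a1_orderOf_dvd_of_commute {G : Type*} [Group G] [Finite G] {t s : G} {K : Subgroup G}
    (h : Hyp t s K) (A : FactsA0 t s K) :
    ∀ v g : G, v ≠ 1 → (∃ x : G, x * v * x⁻¹ ∈ K) → Commute g v →
    orderOf g ∣ 2 * Nat.card K := by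
  intro v g hv1 ⟨x, hxK⟩ hgv
  have hv'1 : x * v * x⁻¹ ≠ 1 := by
    intro h1
    apply hv1
    have : v = x⁻¹ * (x * v * x⁻¹) * x := by group
    rw [this, h1]; group
  -- `g' = x g x⁻¹` commutes with `v' = x v x⁻¹`
  have hcomm : (x * v * x⁻¹) * (x * g * x⁻¹) = (x * g * x⁻¹) * (x * v * x⁻¹) := by
    calc (x * v * x⁻¹) * (x * g * x⁻¹) = x * (v * g) * x⁻¹ := by group
      _ = x * (g * v) * x⁻¹ := by rw [hgv.eq]
      _ = (x * g * x⁻¹) * (x * v * x⁻¹) := by group
  have hmem : x * g * x⁻¹ ∈ Subgroup.centralizer ({t} : Set G) := by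
    by_cases hvt : x * v * x⁻¹ = t
    · rw [Subgroup.mem_centralizer_iff]
      intro y hy
      rw [Set.mem_singleton_iff.1 hy, ← hvt]
      exact hcomm
    · have hcent := A.cent_eq_K _ hxK hv'1 hvt
      apply h.hKH
      rw [← hcent, Subgroup.mem_centralizer_iff]
      intro y hy
      rw [Set.mem_singleton_iff.1 hy]
      exact hcomm
  have h1 : orderOf (x * g * x⁻¹) ∣ 2 * Nat.card K := by
    rw [← A.card_cent_t]
    have := orderOf_dvd_natCard (⟨x * g * x⁻¹, hmem⟩ : Subgroup.centralizer ({t} : Set G))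
    rwa [Subgroup.orderOf_mk] at this
  have h2 : orderOf (x * g * x⁻¹) = orderOf g := by
    have := MulEquiv.orderOf_eq (MulAut.conj x) g
    rwa [MulAut.conj_apply] at this
  rw [h2] at h1
  exact h1

end Cfsg.Agent.Helper68.BSW
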