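import Mathlib
import Cfsg.Agent.Helper71.BSW.Defs

/-!
# (A1g) for helper71's S3282 farm (#10838): no Klein four-group normalizes a nontrivial subgroup of
order prime to `2|K|`.
-/

set_option autoImplicit false

namespace Cfsg.Agent.Helper68.BSW

open Cfsg.Agent.Helper71.BSW

/-- an involution commuting with an element of a subgroup of order prime to `2|K|` forces that
element to be trivial -/
theorem a1g_fixed_trivial {G : Type*} [Group G] [Finite G] {t s : G} {K : Subgroup G}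
    (h : Hyp t s K) (A : FactsA0 t s K) (U : Subgroup G)
    (hcop : (Nat.card U).Coprime (2 * Nat.card K)) (c : G) (hoc : orderOf c = 2) (u : G)
    (hu : u ∈ U) (hcu : c * u = u * c) : u = 1 := by
  obtain ⟨x, hx⟩ := isConj_iff.1 (h.hconj c t hoc h.ht)
  have hmem : x * u * x⁻¹ ∈ Subgroup.centralizer ({t} : Set G) := by
    rw [Subgroup.mem_centralizer_iff]
    intro y hy
    rw [Set.mem_singleton_iff.1 hy, ← hx]
    calc x * c * x⁻¹ * (x * u * x⁻¹) = x * (c * u) * x⁻¹ := by group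
      _ = x * (u * c) * x⁻¹ := by rw [hcu]
      _ = x * u * x⁻¹ * (x * c * x⁻¹) := by group
  have h1 : orderOf (x * u * x⁻¹) ∣ 2 * Nat.card K := by
    rw [← A.card_cent_t]
    have := orderOf_dvd_natCard (⟨x * u * x⁻¹, hmem⟩ : Subgroup.centralizer ({t} : Set G))
    rwa [Subgroup.orderOf_mk] at this
  have h2 : orderOf (x * u * x⁻¹) = orderOf u := by
    have := MulEquiv.orderOf_eq (MulAut.conj x) u
    rwa [MulAut.conj_apply] at this
  have h3 : orderOf u ∣ Nat.card U := by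
    have := orderOf_dvd_natCard (⟨u, hu⟩ : U)
    rwa [Subgroup.orderOf_mk] at this
  rw [h2] at h1
  have h4 : orderOf u ∣ 1 := by
    have := Nat.dvd_gcd h3 h1
    rwa [Nat.Coprime.gcd_eq_one hcop] at this
  exact orderOf_eq_one_iff.1 (Nat.dvd_one.1 h4)

/-- an involution normalizing `U` and fixing no nontrivial element of `U` inverts `U` -/
theorem a1g_inverts {G : Type*} [Group G] [Finite G] (U : Subgroup G) (c : G) (hoc : orderOf c = 2)
    (hcN : c ∈ Subgroup.normalizer (U : Set G))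
    (hfix : ∀ u ∈ U, c * u = u * c → u = 1) : ∀ u ∈ U, c * u * c⁻¹ = u⁻¹ := by
  have hc2 : c * c = 1 := by rw [← pow_two, ← hoc, pow_orderOf_eq_one]
  have hcinv : c⁻¹ = c := inv_eq_of_mul_eq_one_right hc2
  have hconjU : ∀ u ∈ U, c * u * c⁻¹ ∈ U := fun u hu =>
    (Subgroup.mem_normalizer_iff.1 hcN u).1 hu
  let φ : U → U := fun u =>
    ⟨(u : G)⁻¹ * (c * u * c⁻¹), U.mul_mem (U.inv_mem u.2) (hconjU u u.2)⟩
  have hinj : Function.Injective φ := by
    intro u w huw
    have e : (u : G)⁻¹ * (c * u * c⁻¹) = (w : G)⁻¹ * (c * w * c⁻¹) := congrArg Subtype.val huw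
    have e2 : (w : G) * (u : G)⁻¹ = c * ((w : G) * (u : G)⁻¹) * c⁻¹ := by
      calc (w : G) * (u : G)⁻¹
          = (w : G) * ((u : G)⁻¹ * (c * u * c⁻¹)) * (c * u * c⁻¹)⁻¹ := by group
        _ = (w : G) * ((w : G)⁻¹ * (c * w * c⁻¹)) * (c * u * c⁻¹)⁻¹ := by rw [e]
        _ = c * ((w : G) * (u : G)⁻¹) * c⁻¹ := by group
    have hcomm : c * ((w : G) * (u : G)⁻¹) = ((w : G) * (u : G)⁻¹) * c := by
      calc c * ((w : G) * (u : G)⁻¹) = (c * ((w : G) * (u : G)⁻¹) * c⁻¹) * c := by group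
        _ = ((w : G) * (u : G)⁻¹) * c := by rw [← e2]
    have h1 := hfix _ (U.mul_mem w.2 (U.inv_mem u.2)) hcomm
    apply Subtype.ext
    rw [mul_inv_eq_one] at h1
    exact h1.symm
  have hsurj : Function.Surjective φ := Finite.surjective_of_injective hinj
  intro u hu
  obtain ⟨w, hw⟩ := hsurj ⟨u, hu⟩
  have e : (w : G)⁻¹ * (c * w * c⁻¹) = u := congrArg Subtype.val hw
  have h1 : c * (w : G) * c⁻¹ = c⁻¹ * w * c := by rw [hcinv]
  rw [← e]
  calc c * ((w : G)⁻¹ * (c * w * c⁻¹)) * c⁻¹ = c * ((w : G)⁻¹ * (c⁻¹ * w * c)) * c⁻¹ := by rw [h1]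
    _ = ((w : G)⁻¹ * (c * w * c⁻¹))⁻¹ := by group

theorem a1_no_four_group {G : Type*} [Group G] [Finite G] {t s : G} {K : Subgroup G}
    (h : Hyp t s K) (A : FactsA0 t s K) :
    ∀ U : Subgroup G, U ≠ ⊥ → (Nat.card U).Coprime (2 * Nat.card K) →
    ∀ a b : G, a ∈ Subgroup.normalizer (U : Set G) → b ∈ Subgroup.normalizer (U : Set G) →
      orderOf a = 2 → orderOf b = 2 → Commute a b → a = b := by
  intro U hU hcop a b haN hbN hoa hob hab
  by_contra hne
  have ha2 : a * a = 1 := by rw [← pow_two, ← hoa, pow_orderOf_eq_one]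
  have hb2 : b * b = 1 := by rw [← pow_two, ← hob, pow_orderOf_eq_one]
  have L1 := a1g_fixed_trivial h A U hcop
  have hab_ord : orderOf (a * b) = 2 := by
    have : Fact (Nat.Prime 2) := ⟨Nat.prime_two⟩
    apply orderOf_eq_prime
    · rw [pow_two]
      calc a * b * (a * b) = a * (b * a) * b := by group
        _ = a * (a * b) * b := by rw [hab.eq]
        _ = (a * a) * (b * b) := by group
        _ = 1 := by rw [ha2, hb2, mul_one]
    · intro h1
      apply hne
      have h2 : a = b⁻¹ := eq_inv_of_mul_eq_one_left h1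
      rw [h2]
      exact inv_eq_of_mul_eq_one_right hb2
  have hinva := a1g_inverts U a hoa haN (L1 a hoa)
  have hinvb := a1g_inverts U b hob hbN (L1 b hob)
  have hcentral : ∀ u ∈ U, (a * b) * u = u * (a * b) := by
    intro u hu
    have h1 := hinvb u hu
    have h2 := hinva u⁻¹ (U.inv_mem hu)
    have h3 : (a * b) * u * (a * b)⁻¹ = u := by
      calc (a * b) * u * (a * b)⁻¹ = a * (b * u * b⁻¹) * a⁻¹ := by group
        _ = a * u⁻¹ * a⁻¹ := by rw [h1]
        _ = u := by rw [h2, inv_inv]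
    exact mul_inv_eq_iff_eq_mul.1 h3
  apply hU
  rw [Subgroup.eq_bot_iff_forall]
  intro u hu
  exact L1 (a * b) hab_ord u hu (hcentral u hu)

end Cfsg.Agent.Helper68.BSW
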