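import Cfsg.Agent.Helper71.BSW.DefsCT
import Cfsg.Agent.Helper79.CharComplete
import Cfsg.Agent.Helper15.IndChar

/-!
# (S5a) for helper71's S3282 farm (#11223): shape (A), degree relations, congruence and the two
`F`-equations.
-/

set_option autoImplicit false

open Cfsg Cfsg.Agent.Helper71.BSW
open scoped ComplexConjugate

namespace Cfsg.Agent.Helper68.BSW

/-- collapsing a sum against a Kronecker delta -/
theorem s5a_sum_ind {α : Type*} [Fintype α] (a : α) (f : α → ℂ) :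
    ∑ χ : α, f χ * ind χ a = f a := by
  classical
  rw [Finset.sum_eq_single a (fun χ _ hχ => by rw [ind_of_ne hχ, mul_zero])
    (fun hh => absurd (Finset.mem_univ _) hh), ind_self, mul_one]

theorem s_equations {G : Type*} [Group G] [Fintype G] [Fintype (IrrCharacter G)] {t s : G} {K : Subgroup G}
    [Fintype ↥K] [Fintype (↥K →* ℂˣ)]
    {triv : IrrCharacter G} {σ : K →* ℂˣ} {δ : ℤ} {X : IrrCharacter G}
    {Λ : (K →* ℂˣ) → IrrCharacter G} {Y₁ Y₂ : IrrCharacter G} {ε₁ ε₂ : ℤ}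
    (h : Hyp t s K) (hk : 4 ≤ Nat.card K) (T : FactsT t s K) (SA : ShapeA K triv σ δ X Λ Y₁ Y₂ ε₁ ε₂)
    (hvX : ∀ y ∈ K, y ≠ 1 → (X : G → ℂ) y = δ)
    (hvΛ : ∀ μ : K →* ℂˣ, μ ≠ 1 → μ ≠ σ → (Λ μ : G → ℂ) t ^ 2 = 4)
    (hvY : (Y₁ : G → ℂ) t ^ 2 = 1 ∧ (Y₂ : G → ℂ) t ^ 2 = 1)
    (hvo : ∀ χ : IrrCharacter G, χ ≠ triv → χ ≠ X → χ ≠ Y₁ → χ ≠ Y₂ →
      (∀ μ : K →* ℂˣ, μ ≠ 1 → μ ≠ σ → χ ≠ Λ μ) → ∀ y ∈ K, y ≠ 1 → (χ : G → ℂ) y = 0) :
    ∃ x y₁ y₂ : ℕ, 0 < x ∧ 0 < y₁ ∧ 0 < y₂ ∧ (X : G → ℂ) 1 = x ∧ (Y₁ : G → ℂ) 1 = y₁ ∧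
      (Y₂ : G → ℂ) 1 = y₂ ∧ 0 < (x : ℤ) + δ ∧
      (∀ μ : K →* ℂˣ, μ ≠ 1 → μ ≠ σ → (Λ μ : G → ℂ) 1 = (x : ℂ) + δ) ∧
      (Nat.card K : ℤ) ∣ (x : ℤ) - δ ∧
      (1 + (δ : ℚ) / x - 4 * δ / (x + δ)) * (Nat.card G : ℚ) = 4 * (Nat.card K : ℚ) ^ 3 ∧
      (ε₁ : ℚ) / y₁ + (ε₂ : ℚ) / y₂ = -4 * δ / (x + δ) ∧
      δ * x + ε₁ * y₁ + ε₂ * y₂ = -1 := by
  classical
  have hδδ : (δ : ℂ) * δ = 1 := by
    rcases SA.hδ with h1 | h1 <;> rw [h1] <;> norm_num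
  -- degrees
  obtain ⟨x, hx⟩ : ∃ x : ℕ, x = charDegree (X : G → ℂ) := ⟨_, rfl⟩
  obtain ⟨y₁, hy₁⟩ : ∃ x : ℕ, x = charDegree (Y₁ : G → ℂ) := ⟨_, rfl⟩
  obtain ⟨y₂, hy₂⟩ : ∃ x : ℕ, x = charDegree (Y₂ : G → ℂ) := ⟨_, rfl⟩
  have hx0 : 0 < x := by rw [hx]; exact Helper79.irr_charDegree_pos X
  have hy₁0 : 0 < y₁ := by rw [hy₁]; exact Helper79.irr_charDegree_pos Y₁
  have hy₂0 : 0 < y₂ := by rw [hy₂]; exact Helper79.irr_charDegree_pos Y₂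
  have hX1 : (X : G → ℂ) 1 = x := by rw [hx]; exact Helper79.irr_one X
  have hY₁1 : (Y₁ : G → ℂ) 1 = y₁ := by rw [hy₁]; exact Helper79.irr_one Y₁
  have hY₂1 : (Y₂ : G → ℂ) 1 = y₂ := by rw [hy₂]; exact Helper79.irr_one Y₂
  have htriv1 : (triv : G → ℂ) 1 = 1 := SA.triv_apply 1
  -- a non-real `μ₀`
  obtain ⟨μ₀, hμ₀1, hμ₀σ⟩ : ∃ μ₀ : K →* ℂˣ, μ₀ ≠ 1 ∧ μ₀ ≠ σ := by
    by_contra hcon
    push Not at hcon
    have hsub : (Finset.univ : Finset (K →* ℂˣ)) ⊆ {1, σ} := by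
      intro μ _
      by_cases h1 : μ = 1
      · simp [h1]
      · simp [hcon μ h1]
    have h1 := Finset.card_le_card hsub
    have h2 : ({1, σ} : Finset (K →* ℂˣ)).card ≤ 2 := Finset.card_le_two
    rw [Finset.card_univ, T.card_dual] at h1
    omega
  -- the degree of `Λ μ`
  have hΛ1 : ∀ μ : K →* ℂˣ, μ ≠ 1 → μ ≠ σ → (Λ μ : G → ℂ) 1 = (x : ℂ) + δ := by
    intro μ hμ1 hμσ
    have e := T.theta_expand μ 1
    rw [T.theta_one μ] at e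
    have e2 : ∑ χ : IrrCharacter G, coef K μ χ * (χ : G → ℂ) 1 =
        (triv : G → ℂ) 1 + δ * (X : G → ℂ) 1 - δ * (Λ μ : G → ℂ) 1 := by
      have hterm : ∀ χ : IrrCharacter G, coef K μ χ * (χ : G → ℂ) 1 =
          (χ : G → ℂ) 1 * ind χ triv + δ * ((χ : G → ℂ) 1 * ind χ X) -
            δ * ((χ : G → ℂ) 1 * ind χ (Λ μ)) := by
        intro χ
        rw [SA.coef_nonreal μ hμ1 hμσ χ]
        ring
      rw [Finset.sum_congr rfl (fun χ _ => hterm χ), Finset.sum_sub_distrib, Finset.sum_add_distrib,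
        ← Finset.mul_sum, ← Finset.mul_sum, s5a_sum_ind triv (fun χ => (χ : G → ℂ) 1),
        s5a_sum_ind X (fun χ => (χ : G → ℂ) 1), s5a_sum_ind (Λ μ) (fun χ => (χ : G → ℂ) 1)]
    rw [e2, htriv1, hX1] at e
    -- `0 = 1 + δ x - δ Λ`, multiply by `δ`
    have : (Λ μ : G → ℂ) 1 = ((δ : ℂ) * δ) * (Λ μ : G → ℂ) 1 := by rw [hδδ, one_mul]
    rw [this]
    have e3 : (δ : ℂ) * (Λ μ : G → ℂ) 1 = 1 + δ * x := by linear_combination e
    calc (δ : ℂ) * δ * (Λ μ : G → ℂ) 1 = δ * ((δ : ℂ) * (Λ μ : G → ℂ) 1) := by ring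
      _ = δ * (1 + δ * x) := by rw [e3]
      _ = δ + ((δ : ℂ) * δ) * x := by ring
      _ = (x : ℂ) + δ := by rw [hδδ]; ring
  -- positivity of `x + δ`
  have hpos : 0 < (x : ℤ) + δ := by
    have h1 := hΛ1 μ₀ hμ₀1 hμ₀σ
    rw [Helper79.irr_one (Λ μ₀)] at h1
    have h2 : ((charDegree (Λ μ₀ : G → ℂ) : ℤ) : ℂ) = (((x : ℤ) + δ : ℤ) : ℂ) := by
      push_cast
      exact h1
    have h3 : (charDegree (Λ μ₀ : G → ℂ) : ℤ) = (x : ℤ) + δ := Int.cast_injective h2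
    rw [← h3]
    exact_mod_cast Helper79.irr_charDegree_pos (Λ μ₀)
  -- the `σ` relation
  have hσrel : (1 : ℂ) + δ * x + ε₁ * y₁ + ε₂ * y₂ = 0 := by
    have e := T.theta_expand σ 1
    rw [T.theta_one σ] at e
    have e2 : ∑ χ : IrrCharacter G, coef K σ χ * (χ : G → ℂ) 1 =
        (triv : G → ℂ) 1 + δ * (X : G → ℂ) 1 + ε₁ * (Y₁ : G → ℂ) 1 + ε₂ * (Y₂ : G → ℂ) 1 := by
      have hterm : ∀ χ : IrrCharacter G, coef K σ χ * (χ : G → ℂ) 1 =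
          (χ : G → ℂ) 1 * ind χ triv + δ * ((χ : G → ℂ) 1 * ind χ X) +
            ε₁ * ((χ : G → ℂ) 1 * ind χ Y₁) + ε₂ * ((χ : G → ℂ) 1 * ind χ Y₂) := by
        intro χ
        rw [SA.coef_sigma χ]
        ring
      rw [Finset.sum_congr rfl (fun χ _ => hterm χ), Finset.sum_add_distrib, Finset.sum_add_distrib,
        Finset.sum_add_distrib, ← Finset.mul_sum, ← Finset.mul_sum, ← Finset.mul_sum,
        s5a_sum_ind triv (fun χ => (χ : G → ℂ) 1),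
        s5a_sum_ind X (fun χ => (χ : G → ℂ) 1), s5a_sum_ind Y₁ (fun χ => (χ : G → ℂ) 1),
        s5a_sum_ind Y₂ (fun χ => (χ : G → ℂ) 1)]
    rw [e2, htriv1, hX1, hY₁1, hY₂1] at e
    exact e.symm
  have hσrelZ : δ * x + ε₁ * y₁ + ε₂ * y₂ = -1 := by
    have h2 : ((δ * x + ε₁ * y₁ + ε₂ * y₂ : ℤ) : ℂ) = ((-1 : ℤ) : ℂ) := by
      push_cast
      linear_combination hσrel
    exact Int.cast_injective h2
  -- the congruence
  have hcong : (Nat.card K : ℤ) ∣ (x : ℤ) - δ := by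
    have h1 : IsCharacter K (fun w : K => (X : G → ℂ) w) :=
      Helper74.isCharacter_restrict K (Helper74.irr_isCharacter X)
    obtain ⟨m, hm⟩ := Helper15.isCharacter_inner_nat h1 (Helper74.isCharacter_one (G := K))
    unfold classInner at hm
    have hK0 : (Nat.card K : ℂ) ≠ 0 := by
      have : 0 < Nat.card K := Nat.card_pos
      exact_mod_cast this.ne'
    have hsum : ∑ w : K, (X : G → ℂ) w = (Nat.card K : ℂ) * δ + ((x : ℂ) - δ) := by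
      have hterm : ∀ w : K, (X : G → ℂ) w = δ + ((x : ℂ) - δ) * ind w 1 := by
        intro w
        by_cases hw : w = 1
        · rw [hw, ind_self, Subgroup.coe_one, hX1]
          ring
        · rw [ind_of_ne hw, hvX w w.2 (fun hh => hw (Subtype.ext hh))]
          ring
      rw [Finset.sum_congr rfl (fun w _ => hterm w), Finset.sum_add_distrib, ← Finset.mul_sum,
        Finset.sum_const, Finset.card_univ, ← Nat.card_eq_fintype_card, nsmul_eq_mul]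
      have : ∑ w : K, ind w (1 : K) = 1 := by
        rw [Finset.sum_eq_single (1 : K) (fun w _ hw => ind_of_ne hw)
          (fun hh => absurd (Finset.mem_univ _) hh), ind_self]
      rw [this]
      ring
    have hm2 : ∑ w : K, (X : G → ℂ) w = (Nat.card K : ℂ) * m := by
      have : ∑ w : K, (X : G → ℂ) w * conj (1 : ℂ) = ∑ w : K, (X : G → ℂ) w := by
        simp
      rw [this] at hm
      rw [← hm]
      field_simp
    rw [hsum] at hm2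
    refine ⟨(m : ℤ) - δ, ?_⟩
    have h2 : (((x : ℤ) - δ : ℤ) : ℂ) = (((Nat.card K : ℤ) * ((m : ℤ) - δ) : ℤ) : ℂ) := by
      push_cast
      linear_combination hm2
    exact Int.cast_injective h2
  -- the element `t`
  have ht1 : t ≠ 1 := by
    intro h1
    have := h.ht
    rw [h1, orderOf_one] at this
    omega
  have hXt : (X : G → ℂ) t = δ := hvX t h.htK ht1
  have htrivt : (triv : G → ℂ) t = 1 := SA.triv_apply t
  have hx0' : (x : ℂ) ≠ 0 := by exact_mod_cast hx0.ne'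
  have hy₁0' : (y₁ : ℂ) ≠ 0 := by exact_mod_cast hy₁0.ne'
  have hy₂0' : (y₂ : ℂ) ≠ 0 := by exact_mod_cast hy₂0.ne'
  have hxδ0 : (x : ℂ) + δ ≠ 0 := by
    have : (((x : ℤ) + δ : ℤ) : ℂ) ≠ 0 := by exact_mod_cast hpos.ne'
    push_cast at this
    exact this
  have hG0 : (Nat.card G : ℂ) ≠ 0 := by
    have : 0 < Nat.card G := Nat.card_pos
    exact_mod_cast this.ne'
  -- the first `F`-equation
  have hF1 : (1 : ℂ) + δ / x - 4 * δ / (x + δ) = 4 * (Nat.card K : ℂ) ^ 3 / (Nat.card G : ℂ) := by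
    have e := T.F_const μ₀ hμ₀1
    rw [← e]
    have hterm : ∀ χ : IrrCharacter G, (χ : G → ℂ) t ^ 2 / (χ : G → ℂ) 1 * coef K μ₀ χ =
        (χ : G → ℂ) t ^ 2 / (χ : G → ℂ) 1 * ind χ triv +
          δ * ((χ : G → ℂ) t ^ 2 / (χ : G → ℂ) 1 * ind χ X) -
            δ * ((χ : G → ℂ) t ^ 2 / (χ : G → ℂ) 1 * ind χ (Λ μ₀)) := by
      intro χ
      rw [SA.coef_nonreal μ₀ hμ₀1 hμ₀σ χ]
      ring
    rw [Finset.sum_congr rfl (fun χ _ => hterm χ), Finset.sum_sub_distrib, Finset.sum_add_distrib,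
      ← Finset.mul_sum, ← Finset.mul_sum,
      s5a_sum_ind triv (fun χ => (χ : G → ℂ) t ^ 2 / (χ : G → ℂ) 1),
      s5a_sum_ind X (fun χ => (χ : G → ℂ) t ^ 2 / (χ : G → ℂ) 1),
      s5a_sum_ind (Λ μ₀) (fun χ => (χ : G → ℂ) t ^ 2 / (χ : G → ℂ) 1)]
    rw [htrivt, htriv1, hXt, hX1, hvΛ μ₀ hμ₀1 hμ₀σ, hΛ1 μ₀ hμ₀1 hμ₀σ]
    have : (δ : ℂ) ^ 2 = 1 := by rw [pow_two]; exact hδδ
    rw [this]
    field_simp
  -- the second `F`-equation
  have hF2 : (1 : ℂ) + δ / x + ε₁ / y₁ + ε₂ / y₂ = 4 * (Nat.card K : ℂ) ^ 3 / (Nat.card G : ℂ) := by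
    have e := T.F_const σ SA.hσ1
    rw [← e]
    have hterm : ∀ χ : IrrCharacter G, (χ : G → ℂ) t ^ 2 / (χ : G → ℂ) 1 * coef K σ χ =
        (χ : G → ℂ) t ^ 2 / (χ : G → ℂ) 1 * ind χ triv +
          δ * ((χ : G → ℂ) t ^ 2 / (χ : G → ℂ) 1 * ind χ X) +
            ε₁ * ((χ : G → ℂ) t ^ 2 / (χ : G → ℂ) 1 * ind χ Y₁) +
            ε₂ * ((χ : G → ℂ) t ^ 2 / (χ : G → ℂ) 1 * ind χ Y₂) := by
      intro χ
      rw [SA.coef_sigma χ]
      ring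
    rw [Finset.sum_congr rfl (fun χ _ => hterm χ), Finset.sum_add_distrib, Finset.sum_add_distrib,
      Finset.sum_add_distrib, ← Finset.mul_sum, ← Finset.mul_sum, ← Finset.mul_sum,
      s5a_sum_ind triv (fun χ => (χ : G → ℂ) t ^ 2 / (χ : G → ℂ) 1),
      s5a_sum_ind X (fun χ => (χ : G → ℂ) t ^ 2 / (χ : G → ℂ) 1),
      s5a_sum_ind Y₁ (fun χ => (χ : G → ℂ) t ^ 2 / (χ : G → ℂ) 1),
      s5a_sum_ind Y₂ (fun χ => (χ : G → ℂ) t ^ 2 / (χ : G → ℂ) 1)]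
    rw [htrivt, htriv1, hXt, hX1, hvY.1, hvY.2, hY₁1, hY₂1]
    have : (δ : ℂ) ^ 2 = 1 := by rw [pow_two]; exact hδδ
    rw [this]
    field_simp
  refine ⟨x, y₁, y₂, hx0, hy₁0, hy₂0, hX1, hY₁1, hY₂1, hpos, hΛ1, hcong, ?_, ?_, hσrelZ⟩
  · apply Rat.cast_injective (α := ℂ)
    push_cast
    rw [hF1]
    field_simp
  · apply Rat.cast_injective (α := ℂ)
    push_cast
    have : (ε₁ : ℂ) / y₁ + ε₂ / y₂ = -(4 * δ / (x + δ)) := by
      linear_combination hF2 - hF1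
    rw [this]
    ring

end Cfsg.Agent.Helper68.BSW
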